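import Mathlib

set_option autoImplicit false
set_option linter.unusedSectionVars false
set_option linter.unusedVariables false
set_option linter.unusedSimpArgs false
set_option linter.style.haveILetI false
set_option maxHeartbeats 400000

/-!
# Numerical polynomials with values in an abelian group
-/

universe u

namespace Groth.Agent.Lib.Helper6.HSK

variable {G : Type*} [AddCommGroup G]

/-- `f` is eventually a numerical polynomial `n ↦ Σ_i C(n,i) a_i` -/
def IsNumPoly (f : ℕ → G) : Prop :=
  ∃ (r : ℕ) (a : ℕ → G) (N : ℕ), ∀ n, N ≤ n → f n = ∑ i ∈ Finset.range r, (n.choose i : ℤ) • a i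

theorem isNumPoly_of_eventually_zero {f : ℕ → G} (h : ∃ N, ∀ n, N ≤ n → f n = 0) :
    IsNumPoly f := by
  obtain ⟨N, hN⟩ := h
  exact ⟨0, fun _ => 0, N, fun n hn => by rw [hN n hn, Finset.range_zero, Finset.sum_empty]⟩

theorem sum_range_extend (a : ℕ → G) (r R : ℕ) (hrR : r ≤ R) (n : ℕ) :
    ∑ i ∈ Finset.range R, (n.choose i : ℤ) • (if i < r then a i else 0) =
      ∑ i ∈ Finset.range r, (n.choose i : ℤ) • a i := by
  symm
  rw [← Finset.sum_subset (Finset.range_mono hrR)]
  · apply Finset.sum_congr rfl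
    intro i hi
    rw [if_pos (Finset.mem_range.mp hi)]
  · intro i _ hi
    rw [Finset.mem_range] at hi
    rw [if_neg hi, smul_zero]

theorem IsNumPoly.add {f g : ℕ → G} (hf : IsNumPoly f) (hg : IsNumPoly g) :
    IsNumPoly (fun n => f n + g n) := by
  obtain ⟨r, a, N, h⟩ := hf
  obtain ⟨r', a', N', h'⟩ := hg
  refine ⟨max r r', fun i => (if i < r then a i else 0) + (if i < r' then a' i else 0),
    max N N', fun n hn => ?_⟩
  simp only [smul_add, Finset.sum_add_distrib]
  rw [sum_range_extend a r _ (le_max_left _ _), sum_range_extend a' r' _ (le_max_right _ _),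
    h n (le_trans (le_max_left _ _) hn), h' n (le_trans (le_max_right _ _) hn)]

theorem IsNumPoly.neg {f : ℕ → G} (hf : IsNumPoly f) : IsNumPoly (fun n => -f n) := by
  obtain ⟨r, a, N, h⟩ := hf
  refine ⟨r, fun i => -a i, N, fun n hn => ?_⟩
  show -f n = _
  rw [h n hn]
  simp only [smul_neg, Finset.sum_neg_distrib]

theorem IsNumPoly.sub {f g : ℕ → G} (hf : IsNumPoly f) (hg : IsNumPoly g) :
    IsNumPoly (fun n => f n - g n) := by
  have := hf.add hg.neg
  simpa [sub_eq_add_neg] using this

theorem IsNumPoly.congr {f g : ℕ → G} (hf : IsNumPoly f) (h : ∃ N, ∀ n, N ≤ n → g n = f n) :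
    IsNumPoly g := by
  obtain ⟨r, a, N, hf⟩ := hf
  obtain ⟨N', h⟩ := h
  refine ⟨r, a, max N N', fun n hn => ?_⟩
  rw [h n (le_trans (le_max_right _ _) hn), hf n (le_trans (le_max_left _ _) hn)]

theorem sum_choose_succ (a : ℕ → G) (r n : ℕ) :
    ∑ i ∈ Finset.range r, ((n + 1).choose (i + 1) : ℤ) • a i =
      ∑ i ∈ Finset.range r, (n.choose i : ℤ) • a i +
        ∑ i ∈ Finset.range r, (n.choose (i + 1) : ℤ) • a i := by
  rw [← Finset.sum_add_distrib]
  apply Finset.sum_congr rfl
  intro i _
  rw [Nat.choose_succ_succ, Nat.cast_add, add_smul]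

theorem IsNumPoly.shift {f : ℕ → G} (hf : IsNumPoly f) : IsNumPoly (fun n => f (n + 1)) := by
  obtain ⟨r, a, N, h⟩ := hf
  rcases Nat.eq_zero_or_pos r with hr | hr
  · subst hr
    exact ⟨0, a, N, fun n hn => by
      show f (n + 1) = _
      rw [h (n + 1) (by omega), Finset.range_zero, Finset.sum_empty, Finset.sum_empty]⟩
  · obtain ⟨r', rfl⟩ : ∃ r', r = r' + 1 := ⟨r - 1, by omega⟩
    have h1 : IsNumPoly (fun n => ∑ i ∈ Finset.range (r' + 1), (n.choose i : ℤ) • a i) :=
      ⟨r' + 1, a, 0, fun n _ => rfl⟩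
    have h2 : IsNumPoly (fun n => ∑ i ∈ Finset.range r', (n.choose i : ℤ) • a (i + 1)) :=
      ⟨r', fun i => a (i + 1), 0, fun n _ => rfl⟩
    refine (h1.add h2).congr ⟨N, fun n hn => ?_⟩
    show f (n + 1) = _
    rw [h (n + 1) (by omega), Finset.sum_range_succ' _ r', sum_choose_succ (fun i => a (i + 1)),
      Finset.sum_range_succ' _ r']
    simp only [Nat.choose_zero_right]
    abel

/-- a function whose difference is a numerical polynomial is a numerical polynomial -/
theorem IsNumPoly.of_diff {f g : ℕ → G} (hg : IsNumPoly g)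
    (h : ∃ N, ∀ n, N ≤ n → f (n + 1) - f n = g n) : IsNumPoly f := by
  obtain ⟨r, b, N, hb⟩ := hg
  obtain ⟨N₀, h⟩ := h
  set F : ℕ → G := fun n => ∑ i ∈ Finset.range r, (n.choose (i + 1) : ℤ) • b i with hF
  set N₁ := max N N₀ with hN₁
  have hconst : ∀ n, N₁ ≤ n → f n - F n = f N₁ - F N₁ := by
    intro n hn
    induction n, hn using Nat.le_induction with
    | base => rfl
    | succ n hn ih =>
      rw [← ih]
      have h1 := h n (le_trans (le_max_right _ _) hn)
      have h2 := hb n (le_trans (le_max_left _ _) hn)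
      have h3 : F (n + 1) = g n + F n := by
        simp only [hF]
        rw [sum_choose_succ, h2]
      rw [h3, ← h1]
      abel
  refine ⟨r + 1, fun i => if i = 0 then f N₁ - F N₁ else b (i - 1), N₁, fun n hn => ?_⟩
  rw [Finset.sum_range_succ']
  simp only [Nat.choose_zero_right, Nat.cast_one, one_smul, if_pos, Nat.add_sub_cancel,
    Nat.add_one_ne_zero, if_false]
  have := hconst n hn
  rw [← this]
  simp only [hF]
  abel

end Groth.Agent.Lib.Helper6.HSK
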