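import Mathlib
import Groth.Agent.Lib.Helper6.HSK.HSa

set_option autoImplicit false
set_option linter.unusedSectionVars false
set_option linter.unusedVariables false
set_option linter.unusedSimpArgs false
set_option linter.style.haveILetI false
set_option maxHeartbeats 400000

/-!
# Components in graded modules, homogeneous submodules
-/

universe u

open DirectSum

namespace Groth.Agent.Lib.Helper6.HSK

variable {A S : Type u} [CommRing A] [CommRing S] [Algebra A S]
  (𝒜 : ℕ → Submodule A S) [GradedAlgebra 𝒜]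
  {M : Type u} [AddCommGroup M] [Module A M] [Module S M] [IsScalarTower A S M]
  (ℳ : ℕ → Submodule A M) [DirectSum.Decomposition ℳ] [SetLike.GradedSMul 𝒜 ℳ]

/-- the degree `n` component, as a linear map -/
noncomputable def cmp (n : ℕ) : M →ₗ[A] M :=
  (ℳ n).subtype ∘ₗ DirectSum.component A ℕ (fun i => ℳ i) n ∘ₗ
    (DirectSum.decomposeLinearEquiv ℳ).toLinearMap

theorem cmp_apply (n : ℕ) (y : M) : cmp ℳ n y = (DirectSum.decompose ℳ y n : M) := rfl

theorem cmp_mem (n : ℕ) (y : M) : cmp ℳ n y ∈ ℳ n := by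
  rw [cmp_apply]
  exact SetLike.coe_mem _

theorem cmp_of_mem_same {n : ℕ} {y : M} (hy : y ∈ ℳ n) : cmp ℳ n y = y := by
  rw [cmp_apply]
  exact DirectSum.decompose_of_mem_same ℳ hy

theorem cmp_of_mem_ne {n k : ℕ} {y : M} (hy : y ∈ ℳ k) (hkn : k ≠ n) : cmp ℳ n y = 0 := by
  rw [cmp_apply]
  exact DirectSum.decompose_of_mem_ne ℳ hy hkn

open Classical in
theorem sum_cmp (y : M) : ∑ n ∈ (DirectSum.decompose ℳ y).support, cmp ℳ n y = y :=
  DirectSum.sum_support_decompose ℳ y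

theorem smul_mem_add {i j : ℕ} {s : S} {y : M} (hs : s ∈ 𝒜 i) (hy : y ∈ ℳ j) :
    s • y ∈ ℳ (i + j) :=
  SetLike.GradedSMul.smul_mem hs hy

/-- components of `s • y` for homogeneous `s` -/
theorem cmp_smul_homog {i : ℕ} {s : S} (hs : s ∈ 𝒜 i) (y : M) (n : ℕ) :
    cmp ℳ (i + n) (s • y) = s • cmp ℳ n y := by
  classical
  conv_lhs => rw [← sum_cmp ℳ y, Finset.smul_sum, map_sum]
  have hterm : ∀ k ∈ (DirectSum.decompose ℳ y).support,
      cmp ℳ (i + n) (s • cmp ℳ k y) = if k = n then s • cmp ℳ n y else 0 := by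
    intro k _
    split_ifs with h
    · subst h
      exact cmp_of_mem_same ℳ (smul_mem_add 𝒜 ℳ hs (cmp_mem ℳ k y))
    · exact cmp_of_mem_ne ℳ (smul_mem_add 𝒜 ℳ hs (cmp_mem ℳ k y)) (by omega)
  rw [Finset.sum_congr rfl hterm, Finset.sum_ite_eq']
  split_ifs with h
  · rfl
  · rw [DFinsupp.mem_support_toFun, not_not] at h
    have h0 : cmp ℳ n y = 0 := by
      rw [cmp_apply, h]
      rfl
    rw [h0, smul_zero]

theorem cmp_smul_homog_lt {i : ℕ} {s : S} (hs : s ∈ 𝒜 i) (y : M) (n : ℕ) (hn : n < i) :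
    cmp ℳ n (s • y) = 0 := by
  classical
  conv_lhs => rw [← sum_cmp ℳ y, Finset.smul_sum, map_sum]
  apply Finset.sum_eq_zero
  intro k _
  exact cmp_of_mem_ne ℳ (smul_mem_add 𝒜 ℳ hs (cmp_mem ℳ k y)) (by omega)

/-- components of `s • g` for homogeneous `g` -/
theorem cmp_smul_of_mem (s : S) {g : M} {d : ℕ} (hg : g ∈ ℳ d) (n : ℕ) :
    cmp ℳ (n + d) (s • g) = (DirectSum.decompose 𝒜 s n : S) • g := by
  classical
  conv_lhs => rw [← DirectSum.sum_support_decompose 𝒜 s, Finset.sum_smul, map_sum]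
  have hterm : ∀ k ∈ (DirectSum.decompose 𝒜 s).support,
      cmp ℳ (n + d) ((DirectSum.decompose 𝒜 s k : S) • g) =
        if k = n then (DirectSum.decompose 𝒜 s n : S) • g else 0 := by
    intro k _
    split_ifs with h
    · subst h
      exact cmp_of_mem_same ℳ (smul_mem_add 𝒜 ℳ (SetLike.coe_mem _) hg)
    · exact cmp_of_mem_ne ℳ (smul_mem_add 𝒜 ℳ (SetLike.coe_mem _) hg) (by omega)
  rw [Finset.sum_congr rfl hterm, Finset.sum_ite_eq']
  split_ifs with h
  · rfl
  · rw [DFinsupp.mem_support_toFun, not_not] at h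
    rw [h]
    simp

include 𝒜 in
theorem cmp_smul_of_mem_lt (s : S) {g : M} {d : ℕ} (hg : g ∈ ℳ d) (n : ℕ) (hn : n < d) :
    cmp ℳ n (s • g) = 0 := by
  classical
  conv_lhs => rw [← DirectSum.sum_support_decompose 𝒜 s, Finset.sum_smul, map_sum]
  apply Finset.sum_eq_zero
  intro k _
  exact cmp_of_mem_ne ℳ (smul_mem_add 𝒜 ℳ (SetLike.coe_mem _) hg) (by omega)

/-- homogeneous `S`-submodules -/
def IsHomog (N : Submodule S M) : Prop := ∀ y ∈ N, ∀ n, cmp ℳ n y ∈ N

/-- the degree `n` piece of an `S`-submodule -/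
def pc (N : Submodule S M) (n : ℕ) : Submodule A M := N.restrictScalars A ⊓ ℳ n

theorem mem_pc {N : Submodule S M} {n : ℕ} {y : M} : y ∈ pc ℳ N n ↔ y ∈ N ∧ y ∈ ℳ n := by
  rw [pc, Submodule.mem_inf, Submodule.restrictScalars_mem]

theorem pc_le (N : Submodule S M) (n : ℕ) : pc ℳ N n ≤ ℳ n := inf_le_right

theorem pc_mono {N N' : Submodule S M} (h : N ≤ N') (n : ℕ) : pc ℳ N n ≤ pc ℳ N' n :=
  inf_le_inf_right _ (fun y hy => h hy)

theorem isHomog_bot : IsHomog ℳ (⊥ : Submodule S M) := by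
  intro y hy n
  rw [Submodule.mem_bot] at hy
  rw [hy, map_zero]
  exact Submodule.zero_mem _

theorem isHomog_top : IsHomog ℳ (⊤ : Submodule S M) := fun _ _ _ => Submodule.mem_top

theorem IsHomog.sup {N N' : Submodule S M} (h : IsHomog ℳ N) (h' : IsHomog ℳ N') :
    IsHomog ℳ (N ⊔ N') := by
  intro y hy n
  obtain ⟨a, ha, b, hb, rfl⟩ := Submodule.mem_sup.mp hy
  rw [map_add]
  exact Submodule.add_mem _ (Submodule.mem_sup_left (h a ha n)) (Submodule.mem_sup_right (h' b hb n))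

end Groth.Agent.Lib.Helper6.HSK
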