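import Mathlib
import Groth.Agent.Lib.Helper6.HSK.HSb
import Groth.Agent.Lib.Helper6.K0Node.K0

set_option autoImplicit false
set_option linter.unusedSectionVars false
set_option linter.unusedVariables false
set_option linter.unusedSimpArgs false
set_option linter.style.haveILetI false
set_option maxHeartbeats 400000

/-!
# Noetherian graded pieces; classes of subquotients in `K₀`
-/

universe u

open DirectSum CategoryTheory KZero

namespace Groth.Agent.Lib.Helper6.HSK

open Groth.Agent.Lib.Helper6.K0Node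

section Noeth

variable {A S : Type u} [CommRing A] [CommRing S] [Algebra A S]
  (𝒜 : ℕ → Submodule A S) [GradedAlgebra 𝒜]
  {M : Type u} [AddCommGroup M] [Module A M] [Module S M] [IsScalarTower A S M]
  (ℳ : ℕ → Submodule A M) [DirectSum.Decomposition ℳ] [SetLike.GradedSMul 𝒜 ℳ]

/-- every `A`-submodule of a graded piece of a Noetherian graded module is finitely generated -/
theorem fg_of_le_piece [IsNoetherian S M] (h0 : ∀ s ∈ 𝒜 0, s ∈ Set.range (algebraMap A S))
    (n : ℕ) (Q : Submodule A M) (hQ : Q ≤ ℳ n) : Q.FG := by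
  classical
  have hfg : (Submodule.span S (Q : Set M)).FG := IsNoetherian.noetherian _
  obtain ⟨G, hGQ, hspan⟩ := (Submodule.fg_span_iff_fg_span_finset_subset _).mp hfg
  refine ⟨G, ?_⟩
  apply le_antisymm
  · rw [Submodule.span_le]
    exact hGQ
  · intro y hy
    have hy' : y ∈ Submodule.span S (G : Set M) := by
      rw [← hspan]
      exact Submodule.subset_span hy
    obtain ⟨c, -, hc⟩ := (Submodule.mem_span_finset).mp hy'
    have hyn : cmp ℳ n y = y := cmp_of_mem_same ℳ (hQ hy)
    rw [← hyn, ← hc, map_sum]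
    refine Submodule.sum_mem _ fun g hg => ?_
    have hgn : g ∈ ℳ n := hQ (hGQ hg)
    have h1 := cmp_smul_of_mem 𝒜 ℳ (c g) hgn 0
    rw [zero_add] at h1
    rw [h1]
    obtain ⟨a, ha⟩ := h0 _ (SetLike.coe_mem (DirectSum.decompose 𝒜 (c g) 0))
    rw [← ha, algebraMap_smul]
    exact Submodule.smul_mem _ _ (Submodule.subset_span hg)

theorem isNoetherian_piece [IsNoetherian S M] (h0 : ∀ s ∈ 𝒜 0, s ∈ Set.range (algebraMap A S))
    (n : ℕ) : IsNoetherian A (ℳ n) :=
  isNoetherian_submodule.mpr fun Q hQ => fg_of_le_piece 𝒜 ℳ h0 n Q hQ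

end Noeth

section Cls

variable {R : Type u} [CommRing R] {M : Type u} [AddCommGroup M] [Module R M]

/-- the class of the subquotient `Q/(P ⊓ Q)` -/
noncomputable def cls (P Q : Submodule R M) : K0sub (Pfin R) :=
  clSub (Pfin R) (ModuleCat.of R (↥Q ⧸ P.submoduleOf Q))

theorem cls_add {P Q T : Submodule R M} (hPQ : P ≤ Q) (hQT : Q ≤ T) [IsNoetherian R T] :
    cls P T = cls P Q + cls Q T := by
  haveI : IsNoetherian R Q := isNoetherian_of_le hQT
  unfold cls
  have h1 : P.submoduleOf Q ≤ (P.submoduleOf T).comap (Submodule.inclusion hQT) := by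
    intro x hx
    exact hx
  have h2 : P.submoduleOf T ≤ (Q.submoduleOf T).comap (LinearMap.id : ↥T →ₗ[R] ↥T) := by
    intro x hx
    exact hPQ hx
  refine clSub_exact
    (Submodule.mapQ (P.submoduleOf Q) (P.submoduleOf T) (Submodule.inclusion hQT) h1)
    (Submodule.mapQ (P.submoduleOf T) (Q.submoduleOf T) LinearMap.id h2) ?_ ?_ ?_
  · rw [← LinearMap.ker_eq_bot, LinearMap.ker_eq_bot']
    intro x hx
    obtain ⟨b, rfl⟩ := Submodule.Quotient.mk_surjective _ x
    rw [Submodule.mapQ_apply, Submodule.Quotient.mk_eq_zero] at hx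
    rw [Submodule.Quotient.mk_eq_zero]
    exact hx
  · intro x
    obtain ⟨c, rfl⟩ := Submodule.Quotient.mk_surjective _ x
    exact ⟨Submodule.Quotient.mk c, by rw [Submodule.mapQ_apply]; rfl⟩
  · intro x
    obtain ⟨c, rfl⟩ := Submodule.Quotient.mk_surjective _ x
    rw [Submodule.mapQ_apply, Submodule.Quotient.mk_eq_zero]
    constructor
    · intro hc
      have hc' : (c : M) ∈ Q := hc
      refine ⟨Submodule.Quotient.mk ⟨c, hc'⟩, ?_⟩
      rw [Submodule.mapQ_apply]
      rfl
    · rintro ⟨y, hy⟩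
      obtain ⟨b, rfl⟩ := Submodule.Quotient.mk_surjective _ y
      rw [Submodule.mapQ_apply, Submodule.Quotient.eq] at hy
      have h3 : ((Submodule.inclusion hQT b - c : ↥T) : M) ∈ P := hy
      have h4 : (c : M) = (b : M) - ((Submodule.inclusion hQT b - c : ↥T) : M) := by
        simp
      show (c : M) ∈ Q
      rw [h4]
      exact Q.sub_mem b.2 (hPQ h3)

/-- second isomorphism theorem -/
theorem cls_sup (X Y : Submodule R M) [IsNoetherian R ↥(X ⊔ Y)] :
    cls Y (X ⊔ Y) = cls (X ⊓ Y) X := by
  haveI : IsNoetherian R X := isNoetherian_of_le (le_sup_left : X ≤ X ⊔ Y)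
  unfold cls
  exact (clSub_equiv (LinearMap.quotientInfEquivSupQuotient X Y)).symm

theorem cls_inf (P Q : Submodule R M) : cls (P ⊓ Q) Q = cls P Q := by
  unfold cls
  have : (P ⊓ Q).submoduleOf Q = P.submoduleOf Q := by
    ext x
    simp only [Submodule.submoduleOf, Submodule.mem_comap, Submodule.subtype_apply,
      Submodule.mem_inf, x.2, and_true]
  rw [this]

theorem cls_eq_zero {P Q : Submodule R M} (h : Q ≤ P) : cls P Q = 0 := by
  unfold cls
  haveI : Subsingleton (↥Q ⧸ P.submoduleOf Q) := by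
    rw [Submodule.Quotient.subsingleton_iff]
    ext x
    simp only [Submodule.submoduleOf, Submodule.mem_comap, Submodule.subtype_apply,
      Submodule.mem_top, iff_true]
    exact h x.2
  exact clSub_subsingleton _

theorem cls_bot (Q : Submodule R M) [IsNoetherian R Q] :
    cls ⊥ Q = clSub (Pfin R) (ModuleCat.of R ↥Q) := by
  unfold cls
  have hbot : (⊥ : Submodule R M).submoduleOf Q = ⊥ := by
    ext x
    simp only [Submodule.submoduleOf, Submodule.mem_comap, Submodule.subtype_apply,
      Submodule.mem_bot]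
    exact ⟨fun h => Subtype.ext h, fun h => by rw [h]; rfl⟩
  exact clSub_equiv (Submodule.quotEquivOfEqBot _ hbot)

/-- invariance under images -/
theorem cls_map (h : M →ₗ[R] M) {P Q : Submodule R M} (hPQ : P ≤ Q)
    (hk : LinearMap.ker h ⊓ Q ≤ P) [IsNoetherian R Q] :
    cls (P.map h) (Q.map h) = cls P Q := by
  unfold cls
  have hQfg : Q.FG := by
    have hfg : (⊤ : Submodule R ↥Q).FG := IsNoetherian.noetherian _
    have := Submodule.FG.map Q.subtype hfg
    rwa [Submodule.map_top, Submodule.range_subtype] at this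
  haveI : Module.Finite R ↥(Q.map h) := Module.Finite.iff_fg.mpr (hQfg.map h)
  let u : ↥Q →ₗ[R] ↥(Q.map h) := h.restrict (fun b hb => Submodule.mem_map_of_mem hb)
  let v : ↥Q →ₗ[R] (↥(Q.map h) ⧸ (P.map h).submoduleOf (Q.map h)) :=
    (Submodule.mkQ _).comp u
  have hsurj : Function.Surjective v := by
    intro y
    obtain ⟨⟨y, hy⟩, rfl⟩ := Submodule.Quotient.mk_surjective _ y
    obtain ⟨b, hb, rfl⟩ := hy
    exact ⟨⟨b, hb⟩, rfl⟩
  have hker : LinearMap.ker v = P.submoduleOf Q := by
    ext b
    rw [LinearMap.mem_ker]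
    show Submodule.Quotient.mk (u b) = 0 ↔ _
    rw [Submodule.Quotient.mk_eq_zero]
    show h (b : M) ∈ P.map h ↔ (b : M) ∈ P
    constructor
    · rintro ⟨a, ha, hab⟩
      have h1 : (b : M) - a ∈ LinearMap.ker h ⊓ Q := by
        refine ⟨?_, Q.sub_mem b.2 (hPQ ha)⟩
        show (b : M) - a ∈ LinearMap.ker h
        rw [LinearMap.mem_ker, map_sub, hab, sub_self]
      have h2 := hk h1
      have : (b : M) = ((b : M) - a) + a := by abel
      rw [this]
      exact P.add_mem h2 ha
    · intro hb
      exact Submodule.mem_map_of_mem hb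
  exact (clSub_equiv ((Submodule.quotEquivOfEq _ _ hker).symm.trans
    (LinearMap.quotKerEquivOfSurjective v hsurj))).symm

end Cls

end Groth.Agent.Lib.Helper6.HSK
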