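import Mathlib
import Groth.Agent.Lib.Helper6.HSK.HSc

set_option autoImplicit false
set_option linter.unusedSectionVars false
set_option linter.unusedVariables false
set_option linter.unusedSimpArgs false
set_option linter.style.haveILetI false
set_option maxHeartbeats 400000

/-!
# The Hilbert–Serre theorem with values in `K₀` of finite modules over the base
-/

universe u

open DirectSum CategoryTheory KZero

namespace Groth.Agent.Lib.Helper6.HSK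

open Groth.Agent.Lib.Helper6.K0Node

variable {A S : Type u} [CommRing A] [CommRing S] [Algebra A S]
  (𝒜 : ℕ → Submodule A S) [GradedAlgebra 𝒜]
  {M : Type u} [AddCommGroup M] [Module A M] [Module S M] [IsScalarTower A S M]
  (ℳ : ℕ → Submodule A M) [DirectSum.Decomposition ℳ] [SetLike.GradedSMul 𝒜 ℳ]

/-- multiplication by `x` as an `A`-linear map -/
def mulA (x : S) : M →ₗ[A] M := (LinearMap.lsmul S M x).restrictScalars A

omit [DirectSum.Decomposition ℳ] in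
theorem mulA_apply (x : S) (y : M) : mulA (A := A) x y = x • y := rfl

/-- `{y ∈ N' | x y ∈ N}` -/
def colonSub (x : S) (N N' : Submodule S M) : Submodule S M :=
  N' ⊓ N.comap (LinearMap.lsmul S M x)

theorem mem_colonSub {x : S} {N N' : Submodule S M} {y : M} :
    y ∈ colonSub x N N' ↔ y ∈ N' ∧ x • y ∈ N := by
  rw [colonSub, Submodule.mem_inf, Submodule.mem_comap]
  rfl

/-- `N + x N'` -/
def imgSub (x : S) (N N' : Submodule S M) : Submodule S M :=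
  N ⊔ N'.map (LinearMap.lsmul S M x)

theorem isHomog_colonSub {x : S} (hx : x ∈ 𝒜 1) {N N' : Submodule S M} (hN : IsHomog ℳ N)
    (hN' : IsHomog ℳ N') : IsHomog ℳ (colonSub x N N') := by
  intro y hy n
  rw [mem_colonSub] at hy ⊢
  refine ⟨hN' y hy.1 n, ?_⟩
  rw [← cmp_smul_homog 𝒜 ℳ hx y n]
  exact hN _ hy.2 _

theorem isHomog_map_smul {x : S} (hx : x ∈ 𝒜 1) {N' : Submodule S M} (hN' : IsHomog ℳ N') :
    IsHomog ℳ (N'.map (LinearMap.lsmul S M x)) := by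
  rintro _ ⟨y, hy, rfl⟩ n
  show cmp ℳ n (x • y) ∈ _
  rcases Nat.eq_zero_or_pos n with hn | hn
  · subst hn
    rw [cmp_smul_homog_lt 𝒜 ℳ hx y 0 (by omega)]
    exact Submodule.zero_mem _
  · obtain ⟨k, rfl⟩ : ∃ k, n = 1 + k := ⟨n - 1, by omega⟩
    rw [cmp_smul_homog 𝒜 ℳ hx y k]
    exact ⟨cmp ℳ k y, hN' y hy k, rfl⟩

theorem isHomog_imgSub {x : S} (hx : x ∈ 𝒜 1) {N N' : Submodule S M} (hN : IsHomog ℳ N)
    (hN' : IsHomog ℳ N') : IsHomog ℳ (imgSub x N N') :=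
  hN.sup ℳ (isHomog_map_smul 𝒜 ℳ hx hN')

theorem pc_imgSub {x : S} (hx : x ∈ 𝒜 1) {N N' : Submodule S M} (hN : IsHomog ℳ N)
    (hN' : IsHomog ℳ N') (n : ℕ) :
    pc ℳ (imgSub x N N') (n + 1) = pc ℳ N (n + 1) ⊔ (pc ℳ N' n).map (mulA x) := by
  apply le_antisymm
  · intro z hz
    rw [mem_pc ℳ] at hz
    obtain ⟨a, ha, b, hb, rfl⟩ := Submodule.mem_sup.mp hz.1
    obtain ⟨y, hy, rfl⟩ := hb
    have h1 := cmp_of_mem_same ℳ hz.2
    rw [map_add] at h1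
    rw [← h1]
    refine Submodule.add_mem _ (Submodule.mem_sup_left ?_) (Submodule.mem_sup_right ?_)
    · exact (mem_pc ℳ).mpr ⟨hN a ha _, cmp_mem ℳ _ _⟩
    · show cmp ℳ (n + 1) (x • y) ∈ _
      rw [add_comm n 1, cmp_smul_homog 𝒜 ℳ hx y n]
      exact ⟨cmp ℳ n y, (mem_pc ℳ).mpr ⟨hN' y hy n, cmp_mem ℳ _ _⟩, rfl⟩
  · apply sup_le
    · exact pc_mono ℳ le_sup_left _
    · rintro _ ⟨y, hy, rfl⟩
      rw [SetLike.mem_coe, mem_pc ℳ] at hy
      rw [mem_pc ℳ]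
      refine ⟨Submodule.mem_sup_right ⟨y, hy.1, rfl⟩, ?_⟩
      show x • y ∈ ℳ (n + 1)
      rw [add_comm n 1]
      exact smul_mem_add 𝒜 ℳ hx hy.2

/-- the class of the degree `n` piece of `N'/N` -/
noncomputable def F (N N' : Submodule S M) (n : ℕ) : K0sub (Pfin A) :=
  cls (pc ℳ N n) (pc ℳ N' n)

variable [IsNoetherian S M] (h0 : ∀ s ∈ 𝒜 0, s ∈ Set.range (algebraMap A S))

include h0 in
theorem F_diff {x : S} (hx : x ∈ 𝒜 1) {N N' : Submodule S M} (hNN' : N ≤ N') (hN : IsHomog ℳ N)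
    (hN' : IsHomog ℳ N') (n : ℕ) :
    F ℳ N N' (n + 1) - F ℳ N N' n =
      F ℳ (imgSub x N N') N' (n + 1) - F ℳ N (colonSub x N N') n := by
  haveI hnoeth : ∀ k, IsNoetherian A (ℳ k) := fun k => isNoetherian_piece 𝒜 ℳ h0 k
  haveI : IsNoetherian A (pc ℳ N' n) := isNoetherian_of_le (pc_le ℳ N' n)
  haveI : IsNoetherian A (pc ℳ N' (n + 1)) := isNoetherian_of_le (pc_le ℳ N' (n + 1))
  have hxN' : N'.map (LinearMap.lsmul S M x) ≤ N' := by
    rintro _ ⟨y, hy, rfl⟩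
    exact N'.smul_mem x hy
  have hNK : N ≤ colonSub x N N' := fun y hy => mem_colonSub.mpr ⟨hNN' hy, N.smul_mem x hy⟩
  have hKN' : colonSub x N N' ≤ N' := inf_le_left
  have hIN' : imgSub x N N' ≤ N' := sup_le hNN' hxN'
  have hNI : N ≤ imgSub x N N' := le_sup_left
  -- (a)
  have ha : cls (pc ℳ N n) (pc ℳ N' n) =
      cls (pc ℳ N n) (pc ℳ (colonSub x N N') n) + cls (pc ℳ (colonSub x N N') n) (pc ℳ N' n) :=
    cls_add (pc_mono ℳ hNK n) (pc_mono ℳ hKN' n)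
  -- (b)
  have hb : cls ((pc ℳ (colonSub x N N') n).map (mulA x)) ((pc ℳ N' n).map (mulA x)) =
      cls (pc ℳ (colonSub x N N') n) (pc ℳ N' n) := by
    apply cls_map (mulA x) (pc_mono ℳ hKN' n)
    rintro y ⟨hy1, hy2⟩
    rw [SetLike.mem_coe, LinearMap.mem_ker, mulA_apply] at hy1
    rw [SetLike.mem_coe, mem_pc ℳ] at hy2
    rw [mem_pc ℳ, mem_colonSub]
    refine ⟨⟨hy2.1, ?_⟩, hy2.2⟩
    rw [hy1]
    exact N.zero_mem
  -- (c)
  have hc : (pc ℳ (colonSub x N N') n).map (mulA x) =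
      (pc ℳ N' n).map (mulA x) ⊓ pc ℳ N (n + 1) := by
    apply le_antisymm
    · rintro _ ⟨y, hy, rfl⟩
      rw [SetLike.mem_coe, mem_pc ℳ, mem_colonSub] at hy
      refine ⟨⟨y, (mem_pc ℳ).mpr ⟨hy.1.1, hy.2⟩, rfl⟩, (mem_pc ℳ).mpr ⟨hy.1.2, ?_⟩⟩
      show x • y ∈ ℳ (n + 1)
      rw [add_comm n 1]
      exact smul_mem_add 𝒜 ℳ hx hy.2
    · rintro z ⟨⟨y, hy, rfl⟩, hz⟩
      rw [SetLike.mem_coe, mem_pc ℳ] at hy hz
      exact ⟨y, (mem_pc ℳ).mpr ⟨mem_colonSub.mpr ⟨hy.1, hz.1⟩, hy.2⟩, rfl⟩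
  -- (d)
  have hd : (pc ℳ N' n).map (mulA x) ⊔ pc ℳ N (n + 1) = pc ℳ (imgSub x N N') (n + 1) := by
    rw [pc_imgSub 𝒜 ℳ hx hN hN' n, sup_comm]
  haveI : IsNoetherian A ↥((pc ℳ N' n).map (mulA x) ⊔ pc ℳ N (n + 1)) := by
    rw [hd]
    exact isNoetherian_of_le (pc_le ℳ _ (n + 1))
  have hsup := cls_sup ((pc ℳ N' n).map (mulA x)) (pc ℳ N (n + 1))
  rw [hd, ← hc, hb] at hsup
  -- (e)
  have he : cls (pc ℳ N (n + 1)) (pc ℳ N' (n + 1)) =
      cls (pc ℳ N (n + 1)) (pc ℳ (imgSub x N N') (n + 1)) +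
        cls (pc ℳ (imgSub x N N') (n + 1)) (pc ℳ N' (n + 1)) :=
    cls_add (pc_mono ℳ hNI (n + 1)) (pc_mono ℳ hIN' (n + 1))
  unfold F
  rw [he, ha, hsup]
  abel

end Groth.Agent.Lib.Helper6.HSK
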