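import Mathlib
import Groth.Agent.Lib.Helper6.HSK.HSd

set_option autoImplicit false
set_option linter.unusedSectionVars false
set_option linter.unusedVariables false
set_option linter.unusedSimpArgs false
set_option linter.style.haveILetI false
set_option maxHeartbeats 400000

/-!
# The Hilbert–Serre theorem with values in `K₀`: the induction
-/

universe u

open DirectSum CategoryTheory KZero

namespace Groth.Agent.Lib.Helper6.HSK

open Groth.Agent.Lib.Helper6.K0Node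

variable {A S : Type u} [CommRing A] [CommRing S] [Algebra A S]
  (𝒜 : ℕ → Submodule A S) [GradedAlgebra 𝒜]
  {M : Type u} [AddCommGroup M] [Module A M] [Module S M] [IsScalarTower A S M]
  (ℳ : ℕ → Submodule A M) [DirectSum.Decomposition ℳ] [SetLike.GradedSMul 𝒜 ℳ]
  [IsNoetherian S M]

/-- a homogeneous submodule is generated by finitely many homogeneous elements -/
theorem exists_homog_gens {N' : Submodule S M} (hN' : IsHomog ℳ N') :
    ∃ (G : Finset M) (D : ℕ), (∀ g ∈ G, g ∈ N' ∧ ∃ d, d < D ∧ g ∈ ℳ d) ∧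
      N' = Submodule.span S (G : Set M) := by
  classical
  set H : Set M := {y | y ∈ N' ∧ ∃ n, y ∈ ℳ n} with hH
  have hspan : Submodule.span S H = N' := by
    apply le_antisymm
    · rw [Submodule.span_le]
      exact fun y hy => hy.1
    · intro y hy
      rw [← sum_cmp ℳ y]
      refine Submodule.sum_mem _ fun n _ => Submodule.subset_span ⟨hN' y hy n, n, cmp_mem ℳ n y⟩
  have hfg : (Submodule.span S H).FG := IsNoetherian.noetherian _
  obtain ⟨G, hGH, hG⟩ := (Submodule.fg_span_iff_fg_span_finset_subset _).mp hfg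
  have hdeg : ∀ g : M, ∃ d : ℕ, g ∈ G → g ∈ ℳ d := by
    intro g
    by_cases hg : g ∈ G
    · obtain ⟨d, hd⟩ := (hGH hg).2
      exact ⟨d, fun _ => hd⟩
    · exact ⟨0, fun h => absurd h hg⟩
  choose deg hdeg using hdeg
  refine ⟨G, G.sup deg + 1, fun g hg => ⟨(hGH hg).1, deg g, ?_, hdeg g hg⟩, ?_⟩
  · exact Nat.lt_succ_of_le (Finset.le_sup hg)
  · rw [← hspan, hG]

/-- the base case: if `S₊ N' ⊆ N` then `N'` and `N` agree in large degrees -/
theorem pc_le_of_irrelevant {R : ℕ} (x : Fin R → S)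
    (hxgen : (HomogeneousIdeal.irrelevant 𝒜).toIdeal = Ideal.span (Set.range x))
    {N N' : Submodule S M} (hN' : IsHomog ℳ N')
    (hkill : ∀ j : Fin R, N'.map (LinearMap.lsmul S M (x j)) ≤ N) :
    ∃ D, ∀ n, D ≤ n → pc ℳ N' n ≤ pc ℳ N n := by
  classical
  obtain ⟨G, D, hG, hspan⟩ := exists_homog_gens ℳ hN'
  refine ⟨D, fun n hn z hz => ?_⟩
  rw [mem_pc ℳ] at hz ⊢
  refine ⟨?_, hz.2⟩
  have hz' : z ∈ Submodule.span S (G : Set M) := by
    rw [← hspan]
    exact hz.1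
  obtain ⟨c, -, hc⟩ := (Submodule.mem_span_finset).mp hz'
  have hzn : cmp ℳ n z = z := cmp_of_mem_same ℳ hz.2
  rw [← hzn, ← hc, map_sum]
  refine Submodule.sum_mem _ fun g hg => ?_
  obtain ⟨hgN', d, hdD, hgd⟩ := hG g hg
  obtain ⟨k, rfl⟩ : ∃ k, n = k + d := ⟨n - d, by omega⟩
  rw [cmp_smul_of_mem 𝒜 ℳ (c g) hgd k]
  have hk : 0 < k := by omega
  have ht : (DirectSum.decompose 𝒜 (c g) k : S) ∈ (HomogeneousIdeal.irrelevant 𝒜).toIdeal :=
    HomogeneousIdeal.mem_irrelevant_of_mem 𝒜 hk (SetLike.coe_mem _)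
  rw [hxgen] at ht
  obtain ⟨u, hu⟩ := (Ideal.mem_span_range_iff_exists_fun).mp ht
  rw [← hu, Finset.sum_smul]
  refine Submodule.sum_mem _ fun j _ => ?_
  rw [mul_smul]
  exact N.smul_mem _ (hkill j ⟨g, hgN', rfl⟩)

variable (h0 : ∀ s ∈ 𝒜 0, s ∈ Set.range (algebraMap A S))

include h0 in
theorem isNumPoly_F {R : ℕ} (x : Fin R → S) (hx1 : ∀ j, x j ∈ 𝒜 1)
    (hxgen : (HomogeneousIdeal.irrelevant 𝒜).toIdeal = Ideal.span (Set.range x))
    (r : ℕ) (hr : r ≤ R) :
    ∀ N N' : Submodule S M, N ≤ N' → IsHomog ℳ N → IsHomog ℳ N' →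
      (∀ j : Fin R, r ≤ j.val → N'.map (LinearMap.lsmul S M (x j)) ≤ N) →
      IsNumPoly (F ℳ N N') := by
  induction r with
  | zero =>
    intro N N' hNN' hN hN' hkill
    obtain ⟨D, hD⟩ := pc_le_of_irrelevant 𝒜 ℳ x hxgen hN' (fun j => hkill j (Nat.zero_le _))
    exact isNumPoly_of_eventually_zero ⟨D, fun n hn => cls_eq_zero (hD n hn)⟩
  | succ r ih =>
    intro N N' hNN' hN hN' hkill
    have hr' : r ≤ R := by omega
    set jr : Fin R := ⟨r, by omega⟩ with hjr
    have hxN' : ∀ j, N'.map (LinearMap.lsmul S M (x j)) ≤ N' := by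
      rintro j _ ⟨y, hy, rfl⟩
      exact N'.smul_mem _ hy
    have hNK : N ≤ colonSub (x jr) N N' := fun y hy =>
      mem_colonSub.mpr ⟨hNN' hy, N.smul_mem _ hy⟩
    have hIN' : imgSub (x jr) N N' ≤ N' := sup_le hNN' (hxN' jr)
    have h1 : IsNumPoly (F ℳ N (colonSub (x jr) N N')) := by
      apply ih hr' N (colonSub (x jr) N N') hNK hN (isHomog_colonSub 𝒜 ℳ (hx1 jr) hN hN')
      rintro j hj _ ⟨y, hy, rfl⟩
      rw [SetLike.mem_coe, mem_colonSub] at hy
      rcases Nat.eq_or_lt_of_le hj with h | h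
      · have : j = jr := Fin.ext h.symm
        rw [this]
        exact hy.2
      · exact hkill j h ⟨y, hy.1, rfl⟩
    have h2 : IsNumPoly (F ℳ (imgSub (x jr) N N') N') := by
      apply ih hr' (imgSub (x jr) N N') N' hIN' (isHomog_imgSub 𝒜 ℳ (hx1 jr) hN hN') hN'
      rintro j hj _ ⟨y, hy, rfl⟩
      rcases Nat.eq_or_lt_of_le hj with h | h
      · have : j = jr := Fin.ext h.symm
        rw [this]
        exact Submodule.mem_sup_right ⟨y, hy, rfl⟩
      · exact Submodule.mem_sup_left (hkill j h ⟨y, hy, rfl⟩)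
    refine IsNumPoly.of_diff (h2.shift.sub h1) ⟨0, fun n _ => ?_⟩
    exact F_diff 𝒜 ℳ h0 (hx1 jr) hNN' hN hN' n

include h0 in
/-- **Hilbert–Serre** in `K₀` of finite `A`-modules -/
theorem hilbertSerre_K0 [IsNoetherianRing S]
    (h1 : (HomogeneousIdeal.irrelevant 𝒜).toIdeal = Ideal.span (𝒜 1 : Set S)) :
    IsNumPoly (fun n => clSub (Pfin A) (ModuleCat.of A ↥(ℳ n))) := by
  classical
  have hfg : (Ideal.span (𝒜 1 : Set S)).FG := IsNoetherian.noetherian _
  obtain ⟨G, hG1, hG⟩ := (Submodule.fg_span_iff_fg_span_finset_subset _).mp hfg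
  set x : Fin G.card → S := fun j => ((G.equivFin.symm j : {s // s ∈ G}) : S) with hx
  have hrange : Set.range x = (G : Set S) := by
    ext s
    constructor
    · rintro ⟨j, rfl⟩
      exact (G.equivFin.symm j).2
    · intro hs
      refine ⟨G.equivFin ⟨s, hs⟩, ?_⟩
      simp [hx]
  have hx1 : ∀ j, x j ∈ 𝒜 1 := fun j => hG1 (G.equivFin.symm j).2
  have hxgen : (HomogeneousIdeal.irrelevant 𝒜).toIdeal = Ideal.span (Set.range x) := by
    rw [h1, hrange]
    exact hG
  have hmain := isNumPoly_F 𝒜 ℳ h0 x hx1 hxgen G.card le_rfl ⊥ ⊤ bot_le (isHomog_bot ℳ)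
    (isHomog_top ℳ) (fun j hj => absurd j.2 (by omega))
  refine hmain.congr ⟨0, fun n _ => ?_⟩
  haveI : IsNoetherian A (ℳ n) := isNoetherian_piece 𝒜 ℳ h0 n
  unfold F
  have hb : pc ℳ (⊥ : Submodule S M) n = ⊥ := by
    unfold pc
    rw [Submodule.restrictScalars_bot, bot_inf_eq]
  have ht : pc ℳ (⊤ : Submodule S M) n = ℳ n := by
    unfold pc
    rw [Submodule.restrictScalars_top, top_inf_eq]
  rw [hb, ht, cls_bot]

end Groth.Agent.Lib.Helper6.HSK
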